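import Groth.Agent.S2738
import Groth.Agent.S2280
import Groth.Agent.S0388
import Groth.Agent.S3701
import Groth.Agent.CohqB.ProjBC
import Mathlib.AlgebraicGeometry.Geometrically.Connected

/-!
# The étale Stein factorisation of a projective flat morphism with locally integral geometric fibres

Let `S` be locally Noetherian and `X` closed in `P^n_S`, flat over `S`, such that all local rings of the geometric fibres
are domains.  Then `X ⟶ S` is the composite of `X ⟶ S'`, flat with integral geometric fibres and with `X` closed in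
`P^n_{S'}`, and of a finite étale morphism `S' ⟶ S` (`exists_factor`).
-/

set_option autoImplicit false
universe u

open CategoryTheory CategoryTheory.Limits AlgebraicGeometry TopologicalSpace

namespace K283.EtStein

/-- The geometric fibres of `f` are locally integral. -/
def LocInt {X S : Scheme.{u}} (f : X ⟶ S) : Prop :=
  ∀ (Ω : Type u) [Field Ω] [IsAlgClosed Ω] (s : Spec (CommRingCat.of Ω) ⟶ S) (x : ↥(pullback f s)),
    IsDomain ((pullback f s).presheaf.stalk x)

lemma isDomain_stalk_of_isOpenImmersion {X Y : Scheme.{u}} (f : X ⟶ Y) [IsOpenImmersion f]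
    (h : ∀ y : Y, IsDomain (Y.presheaf.stalk y)) (x : X) : IsDomain (X.presheaf.stalk x) := by
  have h1 := h (f x)
  have e : Y.presheaf.stalk (f x) ≅ X.presheaf.stalk x := asIso (f.stalkMap x)
  exact e.commRingCatIsoToRingEquiv.symm.injective.isDomain e.commRingCatIsoToRingEquiv.symm.toRingHom

lemma isReduced_of_isDomain {X : Scheme.{u}} (h : ∀ x : X, IsDomain (X.presheaf.stalk x)) : IsReduced X := by
  have : ∀ x : X, _root_.IsReduced (X.presheaf.stalk x) := fun x => by
    have := h x
    infer_instance
  exact isReduced_of_isReduced_stalk X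

lemma LocInt.baseChange {X S W : Scheme.{u}} {f : X ⟶ S} (h : LocInt f) (ι : W ⟶ S) :
    LocInt (pullback.snd f ι) := by
  intro Ω _ _ s x
  let e : pullback (pullback.snd f ι) s ≅ pullback f (s ≫ ι) := pullbackLeftPullbackSndIso f ι s
  exact isDomain_stalk_of_isOpenImmersion e.hom (h Ω (s ≫ ι)) x

/-- flatness of the first factor -/
lemma flat_of_comp {X Y Z : Scheme.{u}} (g : X ⟶ Y) (p : Y ⟶ Z) [Etale p] [Flat (g ≫ p)] : Flat g := by
  rw [Flat.iff_flat_stalkMap]
  intro x
  refine (Groth.Agent.S2738.result p g x ⟨⊤, trivial, ?_⟩ ?_).2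
  · infer_instance
  · exact Flat.stalkMap (g ≫ p) x

/-- The geometric fibres of the first factor. -/
lemma gInt_of_comp {X Y Z : Scheme.{u}} (g : X ⟶ Y) (p : Y ⟶ Z) [Etale p] [LocallyOfFiniteType g]
    [GeometricallyConnected g] (h : LocInt (g ≫ p)) (Ω : Type u) [Field Ω] [IsAlgClosed Ω]
    (s : Spec (CommRingCat.of Ω) ⟶ Y) : IsIntegral (pullback g s) := by
  have hloc : IsLocallyNoetherian (pullback g s) :=
    LocallyOfFiniteType.isLocallyNoetherian (pullback.snd g s)
  have hopen : IsOpenImmersion (pullback.mapDesc g s p) :=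
    MorphismProperty.of_isPullback (pullback_map_diagonal_isPullback g s p) inferInstance
  have hc : ConnectedSpace (pullback g s : Scheme.{u}) :=
    pullback_of_geometrically GeometricallyConnected.geometrically_connectedSpace Ω s
  refine ((Groth.Agent.S2280.result (pullback g s)).2).2 ⟨hc, ?_⟩
  exact isDomain_stalk_of_isOpenImmersion (pullback.mapDesc g s p) (h Ω (s ≫ p))

open Groth.Agent.CohqB.ProjBC in
/-- Embedding in a projective space over the intermediate base. -/
lemma exists_immersion {X Y Z : Scheme.{u}} (n : ℕ) (i : X ⟶ CohB1.ProjSpaceOver n Z) [IsClosedImmersion i]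
    (g : X ⟶ Y) (p : Y ⟶ Z) [IsSeparated p] (hgp : g ≫ p = i ≫ CohB1.ProjSpaceOver.toBase n Z) :
    ∃ j : X ⟶ CohB1.ProjSpaceOver n Y, IsClosedImmersion j ∧ j ≫ CohB1.ProjSpaceOver.toBase n Y = g := by
  have hP := isPullback_overMap (n := n) p
  let j : X ⟶ CohB1.ProjSpaceOver n Y := hP.lift i g hgp.symm
  have h1 : j ≫ overMap n p = i := hP.lift_fst _ _ _
  have h2 : j ≫ CohB1.ProjSpaceOver.toBase n Y = g := hP.lift_snd _ _ _
  have h3 : IsSeparated (overMap n p) := MorphismProperty.of_isPullback (P := @IsSeparated) hP.flip inferInstance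
  have h4 : IsClosedImmersion (j ≫ overMap n p) := by
    rw [h1]
    infer_instance
  exact ⟨j, IsClosedImmersion.of_comp j (overMap n p), h2⟩

/-- **The étale Stein factorisation.** -/
theorem exists_factor {S X : Scheme.{u}} [IsLocallyNoetherian S] (n : ℕ) (i : X ⟶ CohB1.ProjSpaceOver n S)
    [IsClosedImmersion i] [Flat (i ≫ CohB1.ProjSpaceOver.toBase n S)] [IsProper (i ≫ CohB1.ProjSpaceOver.toBase n S)]
    (h : LocInt (i ≫ CohB1.ProjSpaceOver.toBase n S)) :
    ∃ (S' : Scheme.{u}) (p : S' ⟶ S) (j : X ⟶ CohB1.ProjSpaceOver n S'), IsFinite p ∧ Etale p ∧ IsClosedImmersion j ∧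
      Flat (j ≫ CohB1.ProjSpaceOver.toBase n S') ∧
      (j ≫ CohB1.ProjSpaceOver.toBase n S') ≫ p = i ≫ CohB1.ProjSpaceOver.toBase n S ∧
      ∀ (Ω : Type u) [Field Ω] [IsAlgClosed Ω] (s : Spec (CommRingCat.of Ω) ⟶ S'),
        IsIntegral (pullback (j ≫ CohB1.ProjSpaceOver.toBase n S') s) := by
  let f : X ⟶ S := i ≫ CohB1.ProjSpaceOver.toBase n S
  have hf : Flat f := ‹_›
  have hp : IsProper f := ‹_›
  have hlfp : LocallyOfFinitePresentation f := inferInstance
  obtain ⟨h1, h2⟩ := Groth.Agent.S3701.result f (fun Ω _ _ σ => isReduced_of_isDomain (h Ω σ))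
  have h3 := (Groth.Agent.S0388.result f).1
  have hgp : f.toNormalization ≫ f.fromNormalization = f := f.toNormalization_fromNormalization
  have hflat : Flat (f.toNormalization ≫ f.fromNormalization) := by
    rw [hgp]
    exact hf
  have hlft : LocallyOfFiniteType (f.toNormalization ≫ f.fromNormalization) := by
    rw [hgp]
    infer_instance
  have h4 : Flat f.toNormalization := flat_of_comp f.toNormalization f.fromNormalization
  have h5 : LocallyOfFiniteType f.toNormalization := locallyOfFiniteType_of_comp _ f.fromNormalization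
  obtain ⟨j, hj1, hj2⟩ := exists_immersion n i f.toNormalization f.fromNormalization hgp
  refine ⟨f.normalization, f.fromNormalization, j, h1, h2, hj1, ?_, ?_, ?_⟩
  · rw [hj2]
    exact h4
  · rw [hj2]
    exact hgp
  · rw [hj2]
    have h' : LocInt (f.toNormalization ≫ f.fromNormalization) := by
      rw [hgp]
      exact h
    intro Ω _ _ s
    exact gInt_of_comp f.toNormalization f.fromNormalization h' Ω s

end K283.EtStein
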