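import Groth.Agent.Pic13.H953.FinEt
import Groth.Agent.WeilRes.K933.WRFinite

/-!
# The étale-sheafified Picard functor of `X ⟶ S' ⟶ S`, `S' ⟶ S` integral

`g : X ⟶ S'`, `p : S' ⟶ S` integral.  If `E` is an étale sheafification of `T' ↦ Pic (X ×_{S'} T')` on `Over S'`, then
its direct image `T ↦ E (S' ×_S T)` along `p` is an étale sheafification of `T ↦ Pic (X ×_S T)` (`push`).
-/

set_option autoImplicit false
universe w u

open CategoryTheory CategoryTheory.Limits AlgebraicGeometry Opposite TopologicalSpace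

namespace K283.PushPic

open Groth.Agent.Ega3A.PicDiv Groth.Agent.Ega3A.PicEtSh Groth.Agent.Ega3A.PicSheaf Groth.Agent.Grpsch.PicGrp
  Groth.Agent.Picfga.OverRep Groth.Agent.Pic13.H953.EtFin Groth.Agent.Pic13.H953.FinEt Groth.Agent

variable {X S S' : Scheme.{u}} (g : X ⟶ S') (p : S' ⟶ S)

section iso

/-- `X ×_{S'} (T ×_S S')` is `X ×_S T`. -/
lemma isPullback_eT (T : Over S) :
    IsPullback (pullback.fst g (pullback.snd T.hom p)) (pullback.snd g (pullback.snd T.hom p) ≫ pullback.fst T.hom p)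
      (g ≫ p) T.hom :=
  (IsPullback.of_hasPullback g (pullback.snd T.hom p)).flip.paste_horiz
    (IsPullback.of_hasPullback T.hom p) |>.flip

/-- The identification `X ×_{S'} (T ×_S S') ≅ X ×_S T`. -/
noncomputable def eT (T : Over S) : PicF.XT g ((Over.pullback p).obj T) ≅ PicF.XT (g ≫ p) T :=
  (isPullback_eT g p T).isoPullback

@[reassoc]
lemma eT_hom_fst (T : Over S) :
    (eT g p T).hom ≫ pullback.fst (g ≫ p) T.hom = pullback.fst g (pullback.snd T.hom p) :=
  (isPullback_eT g p T).isoPullback_hom_fst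

@[reassoc]
lemma eT_hom_snd (T : Over S) :
    (eT g p T).hom ≫ pullback.snd (g ≫ p) T.hom =
      pullback.snd g (pullback.snd T.hom p) ≫ pullback.fst T.hom p :=
  (isPullback_eT g p T).isoPullback_hom_snd

lemma XTmap_fst {X S : Scheme.{u}} (f : X ⟶ S) {T T' : Over S} (g : T' ⟶ T) :
    PicF.XTmap f g ≫ pullback.fst f T.hom = pullback.fst f T'.hom :=
  (pullback.lift_fst _ _ _).trans (Category.comp_id _)

lemma XTmap_snd {X S : Scheme.{u}} (f : X ⟶ S) {T T' : Over S} (g : T' ⟶ T) :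
    PicF.XTmap f g ≫ pullback.snd f T.hom = pullback.snd f T'.hom ≫ g.left :=
  pullback.lift_snd _ _ _

lemma XTmap_eT {T T' : Over S} (φ : T' ⟶ T) :
    PicF.XTmap g ((Over.pullback p).map φ) ≫ (eT g p T).hom = (eT g p T').hom ≫ PicF.XTmap (g ≫ p) φ := by
  have h1 := XTmap_fst g ((Over.pullback p).map φ)
  have h2 := XTmap_snd g ((Over.pullback p).map φ)
  have h3 : ((Over.pullback p).map φ).left ≫ pullback.fst T.hom p = pullback.fst T'.hom p ≫ φ.left :=
    pullback.lift_fst _ _ _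
  apply pullback.hom_ext
  · rw [Category.assoc, Category.assoc, XTmap_fst, eT_hom_fst, eT_hom_fst]
    exact h1
  · rw [Category.assoc, Category.assoc, XTmap_snd, eT_hom_snd, eT_hom_snd_assoc, ← h3]
    rw [← Category.assoc, ← Category.assoc]
    exact congrArg (fun z => z ≫ pullback.fst T.hom p) h2

end iso

section cov

/-- Base change of an étale covering. -/
noncomputable def bcCov {T : Over S} (𝒰 : ECov T) : ECov ((Over.pullback p).obj T) where
  ι := 𝒰.ι
  V i := (Over.pullback p).obj (𝒰.V i)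
  j i := (Over.pullback p).map (𝒰.j i)
  isEtale i := MorphismProperty.of_isPullback (P := @Etale)
    (K933.WRSheaf.isPullback_bc_map p (𝒰.j i)).flip (𝒰.isEtale i)
  covers t := by
    obtain ⟨i, v, hv⟩ := 𝒰.covers (pullback.fst T.hom p t)
    obtain ⟨z, hz1, hz2⟩ := Scheme.exists_preimage_of_isPullback (K933.WRSheaf.isPullback_bc_map p (𝒰.j i)).flip
      v t hv
    exact ⟨i, z, hz2⟩

/-- The direct image of an étale sheaf is an étale sheaf. -/
lemma isEtSheaf_push {G : (Over S')ᵒᵖ ⥤ Type w} (hG : IsEtSheaf G) : IsEtSheaf ((Over.pullback p).op ⋙ G) := by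
  intro T 𝒰 x hx
  refine hG ((Over.pullback p).obj T) (bcCov p 𝒰) x ?_
  intro i k W a b hab
  let adj := Over.mapPullbackAdj p
  let a' := (adj.homEquiv W (𝒰.V i)).symm a
  let b' := (adj.homEquiv W (𝒰.V k)).symm b
  have h1 : a' ≫ 𝒰.j i = b' ≫ 𝒰.j k := by
    rw [← Adjunction.homEquiv_naturality_right_symm, ← Adjunction.homEquiv_naturality_right_symm]
    exact congrArg _ hab
  have h2 : G.map ((Over.pullback p).map a').op (x i) = G.map ((Over.pullback p).map b').op (x k) :=
    hx i k _ a' b' h1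
  have ha : a = adj.unit.app W ≫ (Over.pullback p).map a' :=
    ((adj.homEquiv W (𝒰.V i)).apply_symm_apply a).symm.trans (adj.homEquiv_unit _ _ _)
  have hb : b = adj.unit.app W ≫ (Over.pullback p).map b' :=
    ((adj.homEquiv W (𝒰.V k)).apply_symm_apply b).symm.trans (adj.homEquiv_unit _ _ _)
  calc G.map a.op (x i) = G.map (adj.unit.app W).op (G.map ((Over.pullback p).map a').op (x i)) := by
        rw [← map_comp_apply]
        exact map_eq_of_eq ha (x i)
    _ = G.map (adj.unit.app W).op (G.map ((Over.pullback p).map b').op (x k)) := congrArg _ h2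
    _ = G.map b.op (x k) := by
        rw [← map_comp_apply]
        exact (map_eq_of_eq hb (x k)).symm

end cov

section sieve

/-- `S' ×_S T` as a scheme over `S`. -/
noncomputable abbrev M (T : Over S) : Over S := (Over.map p).obj ((Over.pullback p).obj T)

/-- The projection `S' ×_S T ⟶ T`. -/
noncomputable def cou (T : Over S) : M p T ⟶ T :=
  Over.homMk (pullback.fst T.hom p) pullback.condition

lemma cou_nat {T T' : Over S} (φ : T' ⟶ T) :
    cou p T' ≫ φ = (Over.map p).map ((Over.pullback p).map φ) ≫ cou p T := by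
  ext
  exact (pullback.lift_fst _ _ _).symm

instance [IsIntegralHom p] (T : Over S) : IsIntegralHom (cou p T).left :=
  inferInstanceAs (IsIntegralHom (pullback.fst T.hom p))

variable {p}

/-- A scheme with a map to `S' ×_S T` over `S` is a scheme over `S'`. -/
noncomputable abbrev sh {T W : Over S} (q : W ⟶ M p T) : Over S' := Over.mk (q.left ≫ ((Over.pullback p).obj T).hom)

/-- the map `sh q ⟶ S' ×_S T`. -/
noncomputable abbrev shm {T W : Over S} (q : W ⟶ M p T) : sh q ⟶ (Over.pullback p).obj T := Over.homMk q.left rfl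

/-- functoriality of `sh` -/
noncomputable def shp {T W W' : Over S} (θ : W' ⟶ W) (q : W ⟶ M p T) : sh (θ ≫ q) ⟶ sh q :=
  Over.homMk θ.left (by
    change θ.left ≫ q.left ≫ _ = (θ.left ≫ q.left) ≫ _
    rw [Category.assoc])

lemma shp_shm {T W W' : Over S} (θ : W' ⟶ W) (q : W ⟶ M p T) : shp θ q ≫ shm q = shm (θ ≫ q) := by
  ext
  rfl

/-- comparison of restrictions -/
noncomputable def shr {T W : Over S} (O : W.left.Opens) (q : W ⟶ M p T) :
    Over.mk (O.ι ≫ (sh q).hom) ⟶ sh (res W O ≫ q) :=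
  Over.homMk (𝟙 _) (by
    change 𝟙 _ ≫ (O.ι ≫ q.left) ≫ _ = O.ι ≫ q.left ≫ _
    rw [Category.id_comp, Category.assoc])

lemma shr_shm {T W : Over S} (O : W.left.Opens) (q : W ⟶ M p T) :
    shr O q ≫ shm (res W O ≫ q) = res (sh q) O ≫ shm q := by
  ext
  exact Category.id_comp _

variable {g}

lemma disjSieve_class (E : PicSh g) {T : Over S} (x : E.G.obj (op ((Over.pullback p).obj T))) :
    DisjSieve (M p T) (fun {W} (q : W ⟶ M p T) => ∃ c : Pic (PicF.XT g (sh q)), E.η c = E.G.map (shm q).op x) where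
  precomp := by
    rintro W W' θ q ⟨c, hc⟩
    refine ⟨pu g (shp θ q) c, ?_⟩
    rw [E.nat, hc, ← map_comp_apply, shp_shm]
  empty := by
    intro W q hW
    refine ⟨1, ((isEtSheaf_iff _).1 E.sheaf).ext_cover (sh q) (emptyCov hW) _ _ (fun i => i.elim)⟩
  union := by
    rintro W q O₁ O₂ h h' ⟨c₁, hc₁⟩ ⟨c₂, hc₂⟩
    obtain ⟨c, h1, h2⟩ := Pic13.H953.FinEt.exists_glue g (W := sh q) (O₁ := O₁) (O₂ := O₂) h h'
      (pu g (shr O₁ q) c₁) (pu g (shr O₂ q) c₂)
    refine ⟨c, ((isEtSheaf_iff _).1 E.sheaf).ext_cover (sh q) (twoCov (W := sh q) (O₁ := O₁) (O₂ := O₂) h') _ _ ?_⟩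
    rintro ⟨_ | _⟩
    · change E.G.map (res (sh q) O₂).op (E.η c) = E.G.map (res (sh q) O₂).op _
      rw [← E.nat, h2, E.nat, hc₂, ← map_comp_apply, ← map_comp_apply, shr_shm]
    · change E.G.map (res (sh q) O₁).op (E.η c) = E.G.map (res (sh q) O₁).op _
      rw [← E.nat, h1, E.nat, hc₁, ← map_comp_apply, ← map_comp_apply, shr_shm]

lemma disjSieve_eq {T : Over S} (c c' : Pic (PicF.XT g ((Over.pullback p).obj T))) :
    DisjSieve (M p T) (fun {W} (q : W ⟶ M p T) => pu g (shm q) c = pu g (shm q) c') where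
  precomp := by
    intro W W' θ q h
    rw [← shp_shm, pu_comp, pu_comp, h]
  empty := fun q hW => Pic13.H953.PicDisj.eq_of_isEmpty (isEmpty_XT g (W := sh q) hW) _ _
  union := by
    intro W q O₁ O₂ h h' h1 h2
    refine eq_of_res g (W := sh q) (O₁ := O₁) (O₂ := O₂) h h' ?_ ?_
    · rw [← pu_comp, ← pu_comp, ← shr_shm, pu_comp, pu_comp, h1]
    · rw [← pu_comp, ← pu_comp, ← shr_shm, pu_comp, pu_comp, h2]

/-- `(S' ×_S V_i)` over `S'`, compared with the fibre product of `V_i` and `S' ×_S T`. -/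
lemma exists_r {T V : Over S} (j : V ⟶ T) :
    ∃ r : (Over.pullback p).obj V ⟶ sh (pullback.snd j (cou p T)), r ≫ shm _ = (Over.pullback p).map j := by
  let r₀ : M p V ⟶ pullback j (cou p T) := pullback.lift (cou p V) ((Over.map p).map ((Over.pullback p).map j))
    (cou_nat p j)
  have h1 : r₀ ≫ pullback.snd j (cou p T) = (Over.map p).map ((Over.pullback p).map j) := pullback.lift_snd _ _ _
  have h2 : r₀.left ≫ (pullback.snd j (cou p T)).left = ((Over.pullback p).map j).left :=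
    congrArg CommaMorphism.left h1
  refine ⟨Over.homMk r₀.left ?_, ?_⟩
  · change r₀.left ≫ (pullback.snd j (cou p T)).left ≫ _ = _
    rw [← Category.assoc, h2]
    exact Over.w ((Over.pullback p).map j)
  · ext
    exact h2

/-- Push an étale covering of `S' ×_S T` over `S'` to an étale covering over `S`. -/
noncomputable abbrev mapCov {T' : Over S'} (𝒰 : ECov T') : ECov ((Over.map p).obj T') where
  ι := 𝒰.ι
  V i := (Over.map p).obj (𝒰.V i)
  j i := (Over.map p).map (𝒰.j i)
  isEtale i := 𝒰.isEtale i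
  covers t := 𝒰.covers t

/-- comparison -/
noncomputable def cmpV {T : Over S} {V : Over S'} (j : V ⟶ (Over.pullback p).obj T) :
    sh ((Over.map p).map j : (Over.map p).obj V ⟶ M p T) ⟶ V :=
  Over.homMk (𝟙 _) (by
    change 𝟙 _ ≫ V.hom = j.left ≫ _
    rw [Category.id_comp, Over.w])

lemma cmpV_comp {T : Over S} {V : Over S'} (j : V ⟶ (Over.pullback p).obj T) :
    cmpV j ≫ j = shm ((Over.map p).map j : (Over.map p).obj V ⟶ M p T) := by
  ext
  exact Category.id_comp _

theorem exists_class [IsIntegralHom p] (E : PicSh g) {T : Over S} (x : E.G.obj (op ((Over.pullback p).obj T))) :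
    ∃ 𝒰 : ECov T, ∀ i, ∃ c : Pic (PicF.XT g ((Over.pullback p).obj (𝒰.V i))),
      E.η c = E.G.map ((Over.pullback p).map (𝒰.j i)).op x := by
  obtain ⟨𝒱, h𝒱⟩ := E.locSurj _ x
  obtain ⟨𝒰, -, h𝒰⟩ := exists_ecov (disjSieve_class E x) (cou p T) (mapCov 𝒱) (by
    intro i
    obtain ⟨c, hc⟩ := h𝒱 i
    refine ⟨pu g (cmpV (𝒱.j i)) c, ?_⟩
    rw [E.nat, hc, ← map_comp_apply]
    exact map_eq_of_eq (cmpV_comp _) x)
  refine ⟨𝒰, fun i => ?_⟩
  obtain ⟨c, hc⟩ := h𝒰 i
  obtain ⟨r, hr⟩ := exists_r (p := p) (𝒰.j i)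
  refine ⟨pu g r c, ?_⟩
  rw [E.nat, hc, ← map_comp_apply]
  exact map_eq_of_eq hr x

theorem exists_eq [IsIntegralHom p] {T : Over S} (c c' : Pic (PicF.XT g ((Over.pullback p).obj T)))
    (h : LocEq g _ c c') : ∃ 𝒰 : ECov T, ∀ i,
      pu g ((Over.pullback p).map (𝒰.j i)) c = pu g ((Over.pullback p).map (𝒰.j i)) c' := by
  obtain ⟨𝒱, h𝒱⟩ := h
  obtain ⟨𝒰, -, h𝒰⟩ := exists_ecov (disjSieve_eq c c') (cou p T) (mapCov 𝒱) (by
    intro i
    change pu g (shm ((Over.map p).map (𝒱.j i))) c = pu g (shm ((Over.map p).map (𝒱.j i))) c'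
    rw [← cmpV_comp, pu_comp, pu_comp, h𝒱 i])
  refine ⟨𝒰, fun i => ?_⟩
  obtain ⟨r, hr⟩ := exists_r (p := p) (𝒰.j i)
  rw [← hr, pu_comp, pu_comp]
  exact congrArg (pu g r) (h𝒰 i)

end sieve

section push

lemma pull_eT_pu {T T' : Over S} (φ : T' ⟶ T) (c : Pic (PicF.XT (g ≫ p) T)) :
    pull (eT g p T').hom (pu (g ≫ p) φ c) = pu g ((Over.pullback p).map φ) (pull (eT g p T).hom c) := by
  rw [pu, pu, ← pull_comp, ← pull_comp]
  exact congrArg (fun z => pull z c) (XTmap_eT g p φ).symm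

lemma pull_eT_injective (T : Over S) : Function.Injective (pull (eT g p T).hom) := by
  intro c c' h
  have h1 := congrArg (pull (eT g p T).inv) h
  rw [← pull_comp, ← pull_comp, Iso.inv_hom_id, pull_id, pull_id] at h1
  exact h1

lemma pull_eT_surjective (T : Over S) : Function.Surjective (pull (eT g p T).hom) := by
  intro c
  refine ⟨pull (eT g p T).inv c, ?_⟩
  rw [← pull_comp, Iso.hom_inv_id, pull_id]

lemma locEq_bc {T : Over S} {c c' : Pic (PicF.XT (g ≫ p) T)} (h : LocEq (g ≫ p) T c c') :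
    LocEq g ((Over.pullback p).obj T) (pull (eT g p T).hom c) (pull (eT g p T).hom c') := by
  obtain ⟨𝒰, h⟩ := h
  refine ⟨bcCov p 𝒰, fun i => ?_⟩
  change pu g ((Over.pullback p).map (𝒰.j i)) _ = pu g ((Over.pullback p).map (𝒰.j i)) _
  rw [← pull_eT_pu, ← pull_eT_pu]
  exact congrArg _ (h i)

/-- **The direct image along an integral morphism of the étale-sheafified Picard functor.** -/
noncomputable def push [IsIntegralHom p] (E : PicSh g) : PicSh (g ≫ p) where
  G := (Over.pullback p).op ⋙ E.G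
  η {T} c := E.η (pull (eT g p T).hom c)
  nat {T T'} φ c := by
    rw [pull_eT_pu, E.nat]
    rfl
  sheaf := (isEtSheaf_iff _).mpr (isEtSheaf_push p ((isEtSheaf_iff _).mp E.sheaf))
  locSurj T x := by
    obtain ⟨𝒰, h⟩ := exists_class E x
    refine ⟨𝒰, fun i => ?_⟩
    obtain ⟨c, hc⟩ := h i
    obtain ⟨d, rfl⟩ := pull_eT_surjective g p _ c
    exact ⟨d, hc⟩
  eq_iff {T c c'} := by
    rw [E.eq_iff]
    constructor
    · intro h
      obtain ⟨𝒰, h⟩ := exists_eq _ _ h
      refine ⟨𝒰, fun i => ?_⟩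
      have h1 := h i
      rw [← pull_eT_pu, ← pull_eT_pu] at h1
      exact pull_eT_injective g p _ h1
    · exact locEq_bc g p

end push

end K283.PushPic
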