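import Groth.Agent.FGA.K283.PushPic
import Groth.Agent.Ega3A.PicLocBase
import Groth.Agent.Pic13.H932.AF

/-!
# Representability of the Picard functor of `X ⟶ S' ⟶ S`, `S' ⟶ S` finite locally free

`g : X ⟶ S'`, `p : S' ⟶ S` finite locally free with `S` affine.  If the étale-sheafified Picard functor of `X/S'` is
represented by a scheme in which finite sets of points lie in affine opens, then the one of `X/S` is representable, by the
Weil restriction (`representable_comp`).
-/

set_option autoImplicit false
universe w u

open CategoryTheory CategoryTheory.Limits AlgebraicGeometry Opposite TopologicalSpace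

namespace K283.PushRep

open Groth.Agent.Ega3A.PicDiv Groth.Agent.Ega3A.PicEtSh Groth.Agent.Ega3A.PicSheaf Groth.Agent.Grpsch.PicGrp
  Groth.Agent.Picfga.OverRep Groth.Agent K283.PushPic

variable {X S S' : Scheme.{u}} {g : X ⟶ S'} {p : S' ⟶ S}

/-- The Weil restriction of a scheme representing `Pic_{X/S'}` represents `Pic_{X/S}`. -/
theorem representedBy_of_weilRes [IsIntegralHom p] {P' : Over S'} (hP : PicRel.RepresentedBy g P') {R : Over S}
    (r : (WeilRes.functor p P').RepresentableBy R) : PicRel.RepresentedBy (g ≫ p) R := by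
  obtain ⟨E⟩ := exists_picSh g
  obtain ⟨ξ, hξ⟩ := Ega3A.PicLocBase.universal_of_representedBy hP E
  have hr : ∀ (T : Over S) (k : T ⟶ R), r.homEquiv k = (Over.pullback p).map k ≫ r.homEquiv (𝟙 R) := by
    intro T k
    have h1 := r.homEquiv_comp k (𝟙 R)
    rw [Category.comp_id] at h1
    exact h1
  let ζ : (push g p E).G.obj (op R) := E.G.map (show (Over.pullback p).obj R ⟶ P' from r.homEquiv (𝟙 R)).op ξ
  have key : ∀ (T : Over S) (k : T ⟶ R), (push g p E).G.map k.op ζ =
      E.G.map (show (Over.pullback p).obj T ⟶ P' from r.homEquiv k).op ξ := by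
    intro T k
    change E.G.map ((Over.pullback p).map k).op (E.G.map (show (Over.pullback p).obj R ⟶ P' from r.homEquiv (𝟙 R)).op ξ) = _
    rw [← map_comp_apply]
    exact map_eq_of_eq (hr T k).symm ξ
  refine Ega3A.PicLocBase.representedBy_of_universal (push g p E) ζ ?_
  intro T x
  obtain ⟨h, hh, hu⟩ := hξ ((Over.pullback p).obj T) x
  refine ⟨r.homEquiv.symm h, ?_, ?_⟩
  · change (push g p E).G.map (r.homEquiv.symm h).op ζ = x
    rw [key, Equiv.apply_symm_apply]
    exact hh
  · intro k hk
    have hk' : (push g p E).G.map k.op ζ = x := hk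
    rw [key] at hk'
    rw [Equiv.eq_symm_apply]
    exact hu _ hk'

/-- Representability along a finite locally free morphism. -/
theorem representable_comp [IsFinite p] [Flat p] [LocallyOfFinitePresentation p] {P' : Over S'}
    (hP : PicRel.RepresentedBy g P') (haf : Pic13.H932.AF.IsAF P'.left) :
    PicRel.Representable (g ≫ p) := by
  classical
  obtain ⟨R, ⟨r⟩⟩ := K933.WRFinite.exists_representableBy_of_finite p P' (by
    intro V V' v v' f' hpb hv T y t
    have hv' : IsOpenImmersion v' := MorphismProperty.of_isPullback (P := @IsOpenImmersion) hpb hv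
    have h1 : IsOpenImmersion (pullback.fst P'.hom v') := inferInstance
    have h2 : Pic13.H932.AF.IsAF ((Over.pullback v').obj P').left :=
      haf.of_isOpenImmersion (pullback.fst P'.hom v')
    have hf' : IsFinite f' := MorphismProperty.of_isPullback (P := @IsFinite) hpb.flip inferInstance
    have hfin : Set.Finite {z : (Red.bc f' T).left | pullback.fst T.hom f' z = t} :=
      (pullback.fst T.hom f').finite_preimage_singleton t
    obtain ⟨U, hU, hF⟩ := h2 (hfin.toFinset.image (fun z => y.left z))
    refine ⟨U, hU, fun z hz => hF _ ?_⟩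
    rw [Finset.mem_image]
    exact ⟨z, hfin.mem_toFinset.2 hz, rfl⟩)
  exact ⟨R, representedBy_of_weilRes hP r⟩

end K283.PushRep
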