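import Groth.Agent.FGA.K283.PushRep
import Groth.Agent.FGA.K283.EtStein
import Groth.Agent.Pic13.H932.PicAF
import Groth.Agent.FGA.K278.LFT
import Groth.Agent.Ega3A.PicLoc
import Groth.Agent.Ega3B.SerreTwist

/-!
# Representability of the relative Picard functor for locally integral geometric fibres

`exists_representedBy`: `S` locally Noetherian, `X` closed in `P^n_S`, flat over `S` with locally integral geometric
fibres; then the étale-sheafified relative Picard functor of `X/S` is representable by a scheme locally of finite type.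
-/

set_option autoImplicit false
universe u

open CategoryTheory CategoryTheory.Limits AlgebraicGeometry TopologicalSpace

namespace K283.RepLocInt

open Groth.Agent K283.EtStein

/-- the case of an affine Noetherian base. -/
theorem representable_of_affine {S X : Scheme.{u}} [IsNoetherian S] [IsAffine S] (n : ℕ)
    (i : X ⟶ CohB1.ProjSpaceOver n S) [IsClosedImmersion i] [Flat (i ≫ CohB1.ProjSpaceOver.toBase n S)]
    (h : LocInt (i ≫ CohB1.ProjSpaceOver.toBase n S)) :
    PicRel.Representable (i ≫ CohB1.ProjSpaceOver.toBase n S) := by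
  have hp : IsProper (CohB1.ProjSpaceOver.toBase n S) := Dix.ProjProper.isProper_toBase n S
  obtain ⟨S', p, j, h1, h2, h3, h4, h5, h6⟩ := exists_factor n i h
  have : IsAffine S' := isAffine_of_isAffineHom p
  have : IsLocallyNoetherian S' := LocallyOfFiniteType.isLocallyNoetherian p
  have : IsNoetherian S' := {}
  obtain ⟨P', hP', -, -, haf⟩ := Pic13.H932.PicAF.exists_representedBy_af n j h6
  have h7 := PushRep.representable_comp (p := p) hP' haf
  rwa [h5] at h7

/-- **The relative Picard functor is representable** when the geometric fibres are locally integral. -/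
theorem exists_representedBy {S X : Scheme.{u}} [IsLocallyNoetherian S] (n : ℕ)
    (i : X ⟶ CohB1.ProjSpaceOver n S) [IsClosedImmersion i] [Flat (i ≫ CohB1.ProjSpaceOver.toBase n S)]
    (h : LocInt (i ≫ CohB1.ProjSpaceOver.toBase n S)) :
    ∃ P : Over S, PicRel.RepresentedBy (i ≫ CohB1.ProjSpaceOver.toBase n S) P ∧ LocallyOfFiniteType P.hom := by
  have hp : IsProper (CohB1.ProjSpaceOver.toBase n S) := Dix.ProjProper.isProper_toBase n S
  have key : ∀ a : S.affineOpens, ∃ Q : Over a.1.toScheme,
      PicRel.RepresentedBy (pullback.snd (i ≫ CohB1.ProjSpaceOver.toBase n S) a.1.ι) Q ∧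
        LocallyOfFiniteType Q.hom := by
    intro a
    have : IsAffine a.1.toScheme := a.2
    have : IsLocallyNoetherian a.1.toScheme := isLocallyNoetherian_of_isOpenImmersion a.1.ι
    have : IsNoetherian a.1.toScheme := {}
    obtain ⟨i', h1, h2, -, -⟩ := Ega3B.SerreTwist.exists_immersion_baseChange n i a.1.ι
      (IsPullback.of_hasPullback (i ≫ CohB1.ProjSpaceOver.toBase n S) a.1.ι)
    have h3 : Flat (i' ≫ CohB1.ProjSpaceOver.toBase n a.1.toScheme) := by
      rw [h2]
      infer_instance
    have h4 : LocInt (i' ≫ CohB1.ProjSpaceOver.toBase n a.1.toScheme) := by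
      rw [h2]
      exact h.baseChange _
    obtain ⟨Q, hQ⟩ := representable_of_affine n i' h4
    rw [h2] at hQ
    obtain ⟨φ, hφ⟩ := hQ
    exact ⟨Q, ⟨φ, hφ⟩, K278.LFT.locallyOfFiniteType_hom hφ⟩
  choose Q hQ hft using key
  exact Ega3A.PicLoc.representedBy_of_opens (i ≫ CohB1.ProjSpaceOver.toBase n S)
    (fun a : S.affineOpens => a.1.toScheme) (fun a => a.1.ι) (fun s => by
      obtain ⟨U, hU, hs, -⟩ := exists_isAffineOpen_mem_and_subset (X := S) (x := s) (U := ⊤)
        trivial
      exact ⟨⟨U, hU⟩, ⟨s, hs⟩, rfl⟩) Q hQ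

end K283.RepLocInt
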